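import Cfsg.Agent.H567.FC.ZMap

/-!
# S5764 [B-C3U]: semilinear maps commuting with the components (helper567)
-/

set_option autoImplicit false

namespace Cfsg.Agent.H567.FC

open Cfsg.Agent.H198.FC

universe u v w

variable {K : Type u} [Field K] {V : Type v} [AddCommGroup V] [Module K V]
  {b : Cl K V} {E : Type w} [Field E] [Finite E] [Algebra K E] [Module E V] [IsScalarTower K E V] {H : Hm b E}
  {l : ℕ} (P : HB H l)

namespace HB

theorem fe (i j : Fin (l + 1)) : H.h (P.f i) (P.e j) = if i = j then 1 else 0 := by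
  rw [H.symm (P.e j) (P.f i), P.ef]
  by_cases h : j = i
  · rw [if_pos h, if_pos h.symm, map_one]
  · rw [if_neg h, if_neg (fun h' => h h'.symm), map_zero]

/-- an isotropic vector involving `d` -/
theorem exists_v (hJ : ∃ a, H.J a ≠ a) : ∃ a : E, H.h (P.e 0 + a • P.f 0 + P.d) (P.e 0 + a • P.f 0 + P.d) = 0 := by
  have hJ' : (H.J : E →+* E) ≠ RingHom.id E := by
    intro h
    obtain ⟨a, ha⟩ := hJ
    exact ha (DFunLike.congr_fun h a)
  obtain ⟨a, ha⟩ := Cfsg.Agent.ClassicalGeometry.InvolutiveNorm.exists_add_sigma_eq (σ := (H.J : E →+* E)) hJ'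
    (fun a => H.J_invol a) (a := - H.h P.d P.d) (by
      show H.J (- H.h P.d P.d) = _
      rw [map_neg, ← H.symm])
  have ha' : a + H.J a = - H.h P.d P.d := ha
  refine ⟨a, ?_⟩
  have hde : H.h P.d (P.e 0) = 0 := by rw [H.symm (P.e 0) P.d, P.ed, map_zero]
  have hdf : H.h P.d (P.f 0) = 0 := by rw [H.symm (P.f 0) P.d, P.fd, map_zero]
  simp only [H.add_left, H.add_right, H.smul_left, H.smul_right, P.ee, P.ff, P.ef, P.fe, P.ed, P.fd, hde, hdf,
    if_true, mul_zero, mul_one, add_zero, zero_add]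
  linear_combination ha'

/-- maps commuting with the components -/
theorem final {τ : E ≃+* E} (hτ : ∀ k : K, τ (algebraMap K E k) = algebraMap K E k)
    (hfix : ∀ c, τ (τ c) = c → ∃ k : K, algebraMap K E k = c) {γ : E} (hγ0 : γ ≠ 0)
    (hγ : ∀ σ : E ≃+* E, σ γ = γ → ∀ a, σ a = a) {a : E} {g : V → V} (hgi : Function.Injective g)
    (hga : ∀ v v', g (v + v') = g v + g v') {σ : E ≃+* E} (hg : ∀ (a : E) v, g (a • v) = σ a • g v)
    (c1 : ∀ u, TT H P.f P.f hτ (g u) = g (TT H P.f P.f hτ u))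
    (c1' : ∀ u, TT H P.f P.f (symm_fix hτ) (g u) = g (TT H P.f P.f (symm_fix hτ) u))
    (c2 : ∀ u, TT H (fun i => γ • P.e i) P.e hτ (g u) = g (TT H (fun i => γ • P.e i) P.e hτ u))
    (c3 : ∀ u, TT H (fun i : Fin l => P.e i.succ) (fun i => P.e i.castSucc) hτ (g u) =
      g (TT H (fun i : Fin l => P.e i.succ) (fun i => P.e i.castSucc) hτ u))
    (c3' : ∀ u, TT H (fun i : Fin l => P.e i.castSucc) (fun i => P.e i.succ) (symm_fix hτ) (g u) =
      g (TT H (fun i : Fin l => P.e i.castSucc) (fun i => P.e i.succ) (symm_fix hτ) u))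
    (c4 : ∀ u, TT H (fun _ : Unit => P.e 0 + a • P.f 0 + P.d) (fun _ => P.e 0 + a • P.f 0 + P.d) hτ (g u) =
      g (TT H (fun _ : Unit => P.e 0 + a • P.f 0 + P.d) (fun _ => P.e 0 + a • P.f 0 + P.d) hτ u)) :
    ∃ k : K, k ≠ 0 ∧ ∀ u, g u = k • u := by
  have g0 : g 0 = 0 := by simpa using hga 0 0
  -- values
  have t1 : ∀ j, TT H P.f P.f hτ (P.e j) = P.f j := by
    intro j
    rw [TT_apply, Finset.sum_eq_single j]
    · rw [P.ef, if_pos rfl, map_one, one_smul]
    · intro i _ hi
      rw [P.ef, if_neg hi.symm, map_zero, zero_smul]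
    · intro h; exact absurd (Finset.mem_univ j) h
  have t1' : ∀ j, TT H P.f P.f (symm_fix hτ) (P.e j) = P.f j := by
    intro j
    rw [TT_apply, Finset.sum_eq_single j]
    · rw [P.ef, if_pos rfl, map_one, one_smul]
    · intro i _ hi
      rw [P.ef, if_neg hi.symm, map_zero, zero_smul]
    · intro h; exact absurd (Finset.mem_univ j) h
  have t2 : ∀ j, TT H (fun i => γ • P.e i) P.e hτ (P.f j) = γ • P.e j := by
    intro j
    rw [TT_apply, Finset.sum_eq_single j]
    · rw [P.fe, if_pos rfl, map_one, one_smul]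
    · intro i _ hi
      rw [P.fe, if_neg hi.symm, map_zero, zero_smul]
    · intro h; exact absurd (Finset.mem_univ j) h
  have t3 : ∀ j : Fin l, TT H (fun i : Fin l => P.e i.succ) (fun i => P.e i.castSucc) hτ (P.f j.castSucc) =
      P.e j.succ := by
    intro j
    rw [TT_apply, Finset.sum_eq_single j]
    · rw [P.fe, if_pos rfl, map_one, one_smul]
    · intro i _ hi
      rw [P.fe, if_neg (fun h => hi (Fin.castSucc_injective l h).symm), map_zero, zero_smul]
    · intro h; exact absurd (Finset.mem_univ j) h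
  have t3' : TT H (fun i : Fin l => P.e i.castSucc) (fun i => P.e i.succ) (symm_fix hτ) (P.f 0) = 0 := by
    apply TT_zero
    intro i
    rw [P.fe, if_neg (Fin.succ_ne_zero i).symm]
  have t4 : TT H (fun _ : Unit => P.e 0 + a • P.f 0 + P.d) (fun _ => P.e 0 + a • P.f 0 + P.d) hτ (P.f 0) =
      P.e 0 + a • P.f 0 + P.d := by
    rw [TT_apply]
    simp only [Finset.univ_unique, Finset.sum_singleton, H.add_right, H.smul_right, P.fe, P.ff, P.fd, if_true,
      mul_zero, add_zero, map_one, one_smul]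
  -- `g (f 0)`
  have hgf : g (P.f 0) = ∑ i, τ (H.h (g (P.e 0)) (P.f i)) • P.f i := by
    have h := c1 (P.e 0)
    rw [t1, TT_apply] at h
    exact h.symm
  have hgf' : g (P.f 0) = ∑ i, τ.symm (H.h (g (P.e 0)) (P.f i)) • P.f i := by
    have h := c1' (P.e 0)
    rw [t1', TT_apply] at h
    exact h.symm
  have hpair : ∀ j, H.h (g (P.f 0)) (P.e j) = τ (H.h (g (P.e 0)) (P.f j)) := by
    intro j
    rw [hgf, H.sum_left, Finset.sum_eq_single j]
    · rw [H.smul_left, P.fe, if_pos rfl, mul_one]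
    · intro i _ hi
      rw [H.smul_left, P.fe, if_neg hi, mul_zero]
    · intro h; exact absurd (Finset.mem_univ j) h
  have hpair' : ∀ j, H.h (g (P.f 0)) (P.e j) = τ.symm (H.h (g (P.e 0)) (P.f j)) := by
    intro j
    rw [hgf', H.sum_left, Finset.sum_eq_single j]
    · rw [H.smul_left, P.fe, if_pos rfl, mul_one]
    · intro i _ hi
      rw [H.smul_left, P.fe, if_neg hi, mul_zero]
    · intro h; exact absurd (Finset.mem_univ j) h
  have hK : ∀ j, ∃ k : K, algebraMap K E k = H.h (g (P.e 0)) (P.f j) := by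
    intro j
    apply hfix
    rw [← hpair, hpair', τ.apply_symm_apply]
  have hsucc : ∀ j : Fin l, H.h (g (P.e 0)) (P.f j.succ) = 0 := by
    intro j
    have h := c3' (P.f 0)
    rw [t3', g0, TT_apply] at h
    have h1 := congrArg (fun x => H.h x (P.f j.castSucc)) h
    simp only [H.sum_left, H.zero_left] at h1
    rw [Finset.sum_eq_single j] at h1
    · rw [H.smul_left, P.ef, if_pos rfl, mul_one, hpair, τ.symm_apply_apply] at h1
      exact h1
    · intro i _ hi
      rw [H.smul_left, P.ef, if_neg (fun h => hi (Fin.castSucc_injective l h)), mul_zero]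
    · intro h; exact absurd (Finset.mem_univ j) h
  obtain ⟨k, hk⟩ := hK 0
  have hf0 : g (P.f 0) = k • P.f 0 := by
    rw [hgf, Fin.sum_univ_succ, Finset.sum_eq_zero (fun j _ => by rw [hsucc, map_zero, zero_smul]), add_zero,
      ← hk, hτ, algebraMap_smul]
  have hf0ne : P.f 0 ≠ 0 := by
    intro h
    have h1 := P.fe 0 0
    rw [h, H.zero_left, if_pos rfl] at h1
    exact zero_ne_one h1
  have hk0 : k ≠ 0 := by
    rintro rfl
    rw [zero_smul, ← g0] at hf0
    exact hf0ne (hgi hf0)
  have hkE : algebraMap K E k ≠ 0 := by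
    rw [Ne, FaithfulSMul.algebraMap_eq_zero_iff]
    exact hk0
  -- `g (e 0)` and `σ`
  have hge : σ γ • g (P.e 0) = k • γ • P.e 0 := by
    have h := c2 (P.f 0)
    rw [t2, hg, hf0, map_smul, t2] at h
    exact h.symm
  have hσγ : σ γ = γ := by
    have h1 : H.h (σ γ • g (P.e 0)) (P.f 0) = H.h (k • γ • P.e 0) (P.f 0) := by rw [hge]
    rw [H.smul_left, ← hk, ← algebraMap_smul E k, H.smul_left, H.smul_left, P.ef, if_pos rfl, mul_one,
      mul_comm] at h1
    exact mul_left_cancel₀ hkE h1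
  have hσ := hγ σ hσγ
  have he0 : g (P.e 0) = k • P.e 0 := by
    rw [hσγ, smul_comm k γ] at hge
    exact smul_right_injective V hγ0 hge
  have hall : ∀ j, g (P.f j) = k • P.f j ∧ g (P.e j) = k • P.e j := by
    intro j
    induction j using Fin.induction with
    | zero => exact ⟨hf0, he0⟩
    | succ j ih =>
      have h1 : g (P.e j.succ) = k • P.e j.succ := by
        have h := c3 (P.f j.castSucc)
        rw [t3, ih.1, map_smul, t3] at h
        exact h.symm
      refine ⟨?_, h1⟩
      have h := c1 (P.e j.succ)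
      rw [t1, h1, map_smul, t1] at h
      exact h.symm
  have hd : g P.d = k • P.d := by
    have h := c4 (P.f 0)
    rw [t4, hf0, map_smul, t4, hga, hga, hg, hσ, he0, hf0, smul_add, smul_add, smul_comm a k] at h
    exact (add_left_cancel h).symm
  refine ⟨k, hk0, fun u => ?_⟩
  have hu : u ∈ Submodule.span E (Set.range P.e ∪ Set.range P.f ∪ {P.d}) := by
    rw [P.span]
    trivial
  induction hu using Submodule.span_induction with
  | mem x hx =>
    rcases hx with (⟨i, rfl⟩ | ⟨i, rfl⟩) | hx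
    · exact (hall i).2
    · exact (hall i).1
    · rw [Set.mem_singleton_iff.1 hx]
      exact hd
  | zero => rw [g0, smul_zero]
  | add x y _ _ hx hy => rw [hga, hx, hy, smul_add]
  | smul c x _ hx => rw [hg, hσ, hx, smul_comm]

end HB

end Cfsg.Agent.H567.FC
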