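import Mathlib
import Cfsg.Agent.H206.FieldKill

/-!
# S5764 [B-C3U]: finite fields, types of semilinear maps (helper567)
-/

set_option autoImplicit false

namespace Cfsg.Agent.H567.FC

section fld

variable {E : Type*} [Field E] [Finite E]

theorem aut_comm (σ τ : E ≃+* E) (a : E) : σ (τ a) = τ (σ a) := by
  haveI := Cfsg.Agent.H206.FieldKill.isCyclic_aut E
  letI := IsCyclic.commGroup (α := E ≃+* E)
  have h : σ * τ = τ * σ := mul_comm σ τ
  exact congrArg (fun f : E ≃+* E => f a) h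

theorem exists_gen (E : Type*) [Field E] [Finite E] : ∃ γ : E, γ ≠ 0 ∧ ∀ σ : E ≃+* E, σ γ = γ → ∀ a, σ a = a := by
  obtain ⟨u, hu⟩ := IsCyclic.exists_generator (α := Eˣ)
  refine ⟨u, u.ne_zero, fun σ h a => ?_⟩
  rcases eq_or_ne a 0 with rfl | ha
  · exact map_zero σ
  obtain ⟨k, hk⟩ := hu (Units.mk0 a ha)
  have h1 : a = (u : E) ^ k := by
    have h2 := congrArg (Units.val) hk
    simpa using h2.symm
  rw [h1, map_zpow₀, h]

theorem invol_unique {J τ : E ≃+* E} (hJ : ∀ a, J (J a) = a) (hτ : ∀ a, τ (τ a) = a) (hJ1 : ∃ a, J a ≠ a)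
    (hτ1 : ∃ a, τ a ≠ a) : J = τ := by
  classical
  haveI := Cfsg.Agent.H206.FieldKill.isCyclic_aut E
  haveI : Finite (E ≃+* E) := Finite.of_injective (fun f : E ≃+* E => (f : E → E)) DFunLike.coe_injective
  haveI := Fintype.ofFinite (E ≃+* E)
  by_contra hne
  have h := IsCyclic.card_pow_eq_one_le (α := E ≃+* E) (n := 2) (by norm_num)
  have h1 : ({1, J, τ} : Finset (E ≃+* E)) ⊆ Finset.univ.filter fun a : E ≃+* E => a ^ 2 = 1 := by
    intro x hx
    rw [Finset.mem_filter]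
    refine ⟨Finset.mem_univ _, ?_⟩
    simp only [Finset.mem_insert, Finset.mem_singleton] at hx
    rcases hx with rfl | rfl | rfl
    · rw [one_pow]
    · rw [sq]; exact RingEquiv.ext hJ
    · rw [sq]; exact RingEquiv.ext hτ
  have hJ1' : (1 : E ≃+* E) ≠ J := by
    rintro rfl
    obtain ⟨a, ha⟩ := hJ1
    exact ha rfl
  have hτ1' : (1 : E ≃+* E) ≠ τ := by
    rintro rfl
    obtain ⟨a, ha⟩ := hτ1
    exact ha rfl
  have h2 : ({1, J, τ} : Finset (E ≃+* E)).card = 3 := by
    rw [Finset.card_eq_three]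
    exact ⟨1, J, τ, hJ1', hτ1', hne, rfl⟩
  have h3 := (Finset.card_le_card h1).trans h
  omega

variable (K : Type*) [Field K] [Algebra K E]

variable (E) in
theorem exists_frob : ∃ τ : E ≃+* E, (∀ k : K, τ (algebraMap K E k) = algebraMap K E k) ∧
    (∀ c, τ c = c → ∃ k : K, algebraMap K E k = c) ∧
    (∀ c : E, (τ : E → E)^[Module.finrank K E] c = c) := by
  haveI : Finite K := Finite.of_injective _ (FaithfulSMul.algebraMap_injective K E)
  haveI := Fintype.ofFinite K
  let τ := FiniteField.frobeniusAlgEquivOfAlgebraic K E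
  refine ⟨τ.toRingEquiv, fun k => τ.commutes k, ?_, ?_⟩
  · intro c hc
    have h1 : c ∈ (⊥ : IntermediateField K E) := by
      rw [IsGalois.mem_bot_iff_fixed]
      intro f
      obtain ⟨n, hn⟩ := (FiniteField.bijective_frobeniusAlgEquivOfAlgebraic_pow K E).2 f
      rw [← hn]
      show (τ ^ (n : ℕ)) c = c
      rw [AlgEquiv.coe_pow]
      exact Function.iterate_fixed hc _
    rw [IntermediateField.mem_bot] at h1
    exact h1
  · intro c
    have h1 : τ ^ (Module.finrank K E) = 1 := by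
      rw [← FiniteField.orderOf_frobeniusAlgEquivOfAlgebraic]
      exact pow_orderOf_eq_one _
    have h2 := congrArg (fun f : E ≃ₐ[K] E => f c) h1
    simp only [AlgEquiv.coe_pow] at h2
    exact h2

variable (E) in
/-- the generator of the Galois group of `E/K`, odd degree -/
theorem exists_tau (ho : Odd (Module.finrank K E)) (h1 : Module.finrank K E ≠ 1) :
    ∃ τ : E ≃+* E, (∀ k : K, τ (algebraMap K E k) = algebraMap K E k) ∧
    (∀ c, τ (τ c) = c → ∃ k : K, algebraMap K E k = c) ∧ (∃ c, τ c ≠ c) ∧ (∃ c, τ (τ c) ≠ c) := by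
  obtain ⟨τ, h2, h3, h4⟩ := exists_frob E K
  have h5 : ∀ c, τ (τ c) = c → τ c = c := by
    intro c hc
    obtain ⟨m, hm⟩ := ho
    have h6 : ∀ j : ℕ, (τ : E → E)^[2 * j] c = c := by
      intro j
      rw [Function.iterate_mul]
      exact Function.iterate_fixed (by exact hc) j
    have h7 := h4 c
    rw [hm, add_comm, Function.iterate_add_apply, h6] at h7
    exact h7
  have h8 : ∀ c, τ (τ c) = c → ∃ k : K, algebraMap K E k = c := fun c hc => h3 c (h5 c hc)
  have h9 : ∃ c, τ (τ c) ≠ c := by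
    by_contra hcon
    push Not at hcon
    have h10 : Function.Surjective (algebraMap K E) := fun c => h8 c (hcon c)
    apply h1
    have h11 : (⊥ : Subalgebra K E) = ⊤ := by
      rw [eq_top_iff]
      intro x _
      rw [Algebra.mem_bot]
      exact h10 x
    exact Subalgebra.bot_eq_top_iff_finrank_eq_one.1 h11
  refine ⟨τ, h2, h8, ?_, h9⟩
  obtain ⟨c, hc⟩ := h9
  refine ⟨c, fun h => hc ?_⟩
  rw [h, h]

end fld

section types

variable {E : Type*} [Field E] [Finite E] {V : Type*} [AddCommGroup V] [Module E V]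

theorem types_indep {c : (E ≃+* E) → V} [Fintype (E ≃+* E)] (h : ∀ a : E, ∑ ρ, ρ a • c ρ = 0) : ∀ ρ, c ρ = 0 := by
  intro ρ
  rw [← Module.forall_dual_apply_eq_zero_iff E]
  intro φ
  have h1 := linearIndependent_monoidHom E E
  have h2 : LinearIndependent E (fun ρ : E ≃+* E => ((ρ : E →* E) : E → E)) :=
    h1.comp (fun ρ : E ≃+* E => (ρ : E →* E)) (fun ρ ρ' h => RingEquiv.ext fun a => DFunLike.congr_fun h a)
  rw [Fintype.linearIndependent_iff] at h2
  refine h2 (fun ρ => φ (c ρ)) ?_ ρ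
  funext a
  have h3 := congrArg φ (h a)
  rw [map_sum, map_zero] at h3
  simp only [map_smul, smul_eq_mul] at h3
  simp only [Finset.sum_apply, Pi.smul_apply, smul_eq_mul, Pi.zero_apply]
  rw [← h3]
  exact Finset.sum_congr rfl fun i _ => mul_comm _ _

/-- **Rigidity.** -/
theorem rigid {τ : E ≃+* E} (hτ1 : ∃ c, τ c ≠ c) (hτ2 : ∃ c, τ (τ c) ≠ c) {g g' z₁ z₂ : V → V} {σ σ' : E ≃+* E}
    (hg : ∀ (a : E) v, g (a • v) = σ a • g v) (hg' : ∀ (a : E) v, g' (a • v) = σ' a • g' v)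
    (hz₁ : ∀ (a : E) v, z₁ (a • v) = τ a • z₁ v) (hz₂ : ∀ (a : E) v, z₂ (a • v) = τ.symm a • z₂ v)
    (hx : ∀ v, g v + z₁ (g v) - z₂ (g v) = g' v + g' (z₁ v) - g' (z₂ v)) {v₀ : V} (h0 : g v₀ ≠ 0)
    (h1 : z₁ v₀ = 0) (h2 : z₂ v₀ = 0) (g'0 : g' 0 = 0) :
    (∀ v, z₁ (g v) = g (z₁ v)) ∧ (∀ v, z₂ (g v) = g (z₂ v)) := by
  classical
  haveI : Finite (E ≃+* E) := Finite.of_injective (fun f : E ≃+* E => (f : E → E)) DFunLike.coe_injective
  haveI := Fintype.ofFinite (E ≃+* E)
  have ne1 : ∀ ρ : E ≃+* E, ρ ≠ ρ.trans τ := by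
    intro ρ h
    obtain ⟨c, hc⟩ := hτ1
    apply hc
    have h3 := congrArg (fun f : E ≃+* E => f (ρ.symm c)) h
    simp only [RingEquiv.trans_apply, RingEquiv.apply_symm_apply] at h3
    exact h3.symm
  have ne2 : ∀ ρ : E ≃+* E, ρ ≠ ρ.trans τ.symm := by
    intro ρ h
    obtain ⟨c, hc⟩ := hτ1
    apply hc
    have h3 := congrArg (fun f : E ≃+* E => f (ρ.symm c)) h
    simp only [RingEquiv.trans_apply, RingEquiv.apply_symm_apply] at h3
    rw [h3, RingEquiv.apply_symm_apply, ← h3]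
  have ne3 : ∀ ρ : E ≃+* E, ρ.trans τ ≠ ρ.trans τ.symm := by
    intro ρ h
    obtain ⟨c, hc⟩ := hτ2
    apply hc
    have h3 := congrArg (fun f : E ≃+* E => f (ρ.symm c)) h
    simp only [RingEquiv.trans_apply, RingEquiv.apply_symm_apply] at h3
    rw [h3, RingEquiv.apply_symm_apply]
  have key : ∀ v (ρ : E ≃+* E), (if ρ = σ then g v else 0) + (if ρ = σ.trans τ then z₁ (g v) else 0) -
      (if ρ = σ.trans τ.symm then z₂ (g v) else 0) = (if ρ = σ' then g' v else 0) +
      (if ρ = σ'.trans τ then g' (z₁ v) else 0) - (if ρ = σ'.trans τ.symm then g' (z₂ v) else 0) := by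
    intro v ρ
    rw [← sub_eq_zero]
    refine types_indep (c := fun ρ : E ≃+* E => ((if ρ = σ then g v else 0) + (if ρ = σ.trans τ then z₁ (g v) else 0) -
      (if ρ = σ.trans τ.symm then z₂ (g v) else 0)) - ((if ρ = σ' then g' v else 0) +
      (if ρ = σ'.trans τ then g' (z₁ v) else 0) - (if ρ = σ'.trans τ.symm then g' (z₂ v) else 0))) ?_ ρ
    intro a
    have h3 := hx (a • v)
    rw [hg, hz₁, hz₂, hg', hz₁, hz₂, hg', hg', aut_comm σ' τ, aut_comm σ' τ.symm, ← sub_eq_zero] at h3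
    simp only [smul_sub, smul_add, smul_ite, smul_zero, Finset.sum_sub_distrib, Finset.sum_add_distrib,
      Finset.sum_ite_eq', Finset.mem_univ, if_true, RingEquiv.trans_apply]
    exact h3
  have hσ : σ = σ' := by
    by_contra hne
    have h3 := key v₀ σ
    rw [if_pos rfl, if_neg (ne1 σ), if_neg (ne2 σ), if_neg hne, h1, h2, g'0] at h3
    simp only [ite_self, add_zero, sub_zero] at h3
    exact h0 h3
  subst hσ
  have hgg : ∀ v, g v = g' v := by
    intro v
    have h3 := key v σ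
    rw [if_pos rfl, if_neg (ne1 σ), if_neg (ne2 σ), if_pos rfl, if_neg (ne1 σ), if_neg (ne2 σ)] at h3
    simpa using h3
  constructor
  · intro v
    have h3 := key v (σ.trans τ)
    rw [if_neg (ne1 σ).symm, if_pos rfl, if_neg (ne3 σ), if_neg (ne1 σ).symm, if_pos rfl, if_neg (ne3 σ)] at h3
    rw [hgg (z₁ v)]
    simpa using h3
  · intro v
    have h3 := key v (σ.trans τ.symm)
    rw [if_neg (ne2 σ).symm, if_neg (ne3 σ).symm, if_pos rfl, if_neg (ne2 σ).symm, if_neg (ne3 σ).symm, if_pos rfl] at h3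
    rw [hgg (z₂ v)]
    simpa using h3

end types

end Cfsg.Agent.H567.FC
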