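import Cfsg.Agent.H198.FC.DefsB
import Cfsg.Agent.H567.FC.Fld
import Cfsg.Agent.ClassicalGeometry.HermOrthonormal

/-!
# S5764 [B-C3U]: the hermitian form over the extension field (helper567)
-/

set_option autoImplicit false

namespace Cfsg.Agent.H567.FC

open Cfsg.Agent.H198.FC

universe u v w

/-- a hermitian form over `E` inducing `b` by the trace -/
structure Hm {K : Type u} [Field K] {V : Type v} [AddCommGroup V] [Module K V] (b : Cl K V) (E : Type w) [Field E]
    [Algebra K E] [Module E V] where
  /-- the involution -/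
  J : E ≃+* E
  /-- the form -/
  h : V → V → E
  J_invol : ∀ a, J (J a) = a
  J_alg : ∀ k : K, J (algebraMap K E k) = algebraMap K E (b.τ k)
  add_left : ∀ v v' w, h (v + v') w = h v w + h v' w
  smul_left : ∀ (a : E) v w, h (a • v) w = a * h v w
  symm : ∀ v w, h w v = J (h v w)
  tr : ∀ v w, b.B v w = Algebra.trace K E (h v w)
  nondeg : ∀ v, (∀ w, h v w = 0) → v = 0

section

variable {K : Type u} [Field K] [Finite K] {V : Type v} [AddCommGroup V] [Module K V] [Module.Finite K V]
  {b : Cl K V} {E : Type w} [Field E] [Finite E] [Algebra K E] [Module E V] [IsScalarTower K E V]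

theorem Cl_nondeg_right (hU : b.IsU) {w : V} (h : ∀ v, b.B v w = 0) : w = 0 := by
  apply b.nondeg
  intro v
  rw [hU.2 v w, h, map_zero]

theorem ext_tr {x y : E} (h : ∀ a : E, Algebra.trace K E (x * a) = Algebra.trace K E (y * a)) : x = y := by
  have h1 := traceForm_nondegenerate K E
  rw [← sub_eq_zero]
  apply h1.1
  intro a
  rw [Algebra.traceForm_apply, sub_mul, map_sub, h a, sub_self]

theorem trace_J {J : E ≃+* E} {τ : K ≃+* K} (hJ : ∀ k : K, J (algebraMap K E k) = algebraMap K E (τ k)) (x : E) :
    Algebra.trace K E (J x) = τ (Algebra.trace K E x) := by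
  apply FaithfulSMul.algebraMap_injective K E
  rw [← hJ, FiniteField.algebraMap_trace_eq_sum_pow, FiniteField.algebraMap_trace_eq_sum_pow, map_sum]
  exact Finset.sum_congr rfl fun i _ => (map_pow J x _).symm

theorem exists_Hm [Nontrivial V] (hU : b.IsU) (hadj : ∀ a : E, ∃ a' : E, ∀ v w, b.B (a • v) w = b.B v (a' • w)) :
    Nonempty (Hm b E) := by
  choose J hJ using hadj
  have b0r : ∀ v, b.B v 0 = 0 := fun v => by simpa using b.smul_right (0 : K) v 0
  have huniq : ∀ {a a' : E}, (∀ v w, b.B v (a • w) = b.B v (a' • w)) → a = a' := by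
    intro a a' h
    obtain ⟨w, hw⟩ := exists_ne (0 : V)
    have h1 : a • w + (-1 : K) • (a' • w) = 0 := by
      apply Cl_nondeg_right hU
      intro v
      rw [b.add_right, b.smul_right, h, map_neg, map_one, neg_one_mul, add_neg_cancel]
    rw [neg_one_smul, ← sub_eq_add_neg, ← sub_smul, smul_eq_zero] at h1
    rcases h1 with h1 | h1
    · exact sub_eq_zero.1 h1
    · exact absurd h1 hw
  have hJJ : ∀ a, J (J a) = a := by
    intro a
    apply huniq
    intro v w
    rw [← hJ, hU.2 w (J a • v), ← hJ, hU.2 v (a • w), b.invol]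
  have hJadd : ∀ a a', J (a + a') = J a + J a' := by
    intro a a'
    apply huniq
    intro v w
    rw [← hJ, add_smul, add_smul, b.add_left, b.add_right, hJ, hJ]
  have hJmul : ∀ a a', J (a * a') = J a * J a' := by
    intro a a'
    apply huniq
    intro v w
    rw [← hJ, mul_smul, mul_comm (J a), mul_smul, hJ, hJ]
  let J' : E ≃+* E :=
    { toFun := J, invFun := J, left_inv := hJJ, right_inv := hJJ, map_add' := hJadd, map_mul' := hJmul }
  have hJalg : ∀ k : K, J (algebraMap K E k) = algebraMap K E (b.τ k) := by
    intro k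
    apply huniq
    intro v w
    rw [← hJ, algebraMap_smul, algebraMap_smul, b.smul_left, b.smul_right, b.invol]
  -- the form
  let ℓ : V → V → Module.Dual K E := fun v w =>
    { toFun := fun a => b.B (a • v) w
      map_add' := fun a a' => by rw [add_smul, b.add_left]
      map_smul' := fun k a => by rw [smul_assoc, b.smul_left]; rfl }
  have hnd := traceForm_nondegenerate K E
  let h : V → V → E := fun v w => (LinearMap.BilinForm.toDual (Algebra.traceForm K E) hnd).symm (ℓ v w)
  have hh : ∀ v w a, Algebra.trace K E (h v w * a) = b.B (a • v) w := by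
    intro v w a
    have h1 := LinearMap.BilinForm.apply_toDual_symm_apply (B := Algebra.traceForm K E) (hB := hnd) (ℓ v w) a
    rw [Algebra.traceForm_apply] at h1
    exact h1
  have hadd : ∀ v v' w, h (v + v') w = h v w + h v' w := by
    intro v v' w
    apply ext_tr (K := K)
    intro a
    rw [hh, add_mul, map_add, hh, hh, smul_add, b.add_left]
  have hsmul : ∀ (a : E) v w, h (a • v) w = a * h v w := by
    intro a v w
    apply ext_tr (K := K)
    intro c
    rw [hh, mul_comm a, mul_assoc, hh, ← mul_smul, mul_comm a c]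
  have hsymm : ∀ v w, h w v = J (h v w) := by
    intro v w
    apply ext_tr (K := K)
    intro a
    have h1 : J (h v w) * a = J' (h v w * J a) := by
      show _ = J (h v w * J a)
      rw [hJmul, hJJ]
    rw [hh, h1, trace_J (J := J') (τ := b.τ) hJalg, hh, hU.2 v (a • w)]
    congr 1
    rw [hJ, hJJ]
  refine ⟨⟨J', h, hJJ, hJalg, hadd, hsmul, hsymm, ?_, ?_⟩⟩
  · intro v w
    have h1 := hh v w 1
    rw [mul_one, one_smul] at h1
    exact h1.symm
  · intro v hv
    apply b.nondeg
    intro w
    have h1 := hh v w 1
    rw [mul_one, one_smul, hv, map_zero] at h1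
    exact h1.symm

end

namespace Hm

variable {K : Type u} [Field K] {V : Type v} [AddCommGroup V] [Module K V]
  {b : Cl K V} {E : Type w} [Field E] [Algebra K E] [Module E V] (H : Hm b E)

theorem add_right (v w w' : V) : H.h v (w + w') = H.h v w + H.h v w' := by
  rw [H.symm (w + w') v, H.add_left, map_add, ← H.symm, ← H.symm]

theorem smul_right (a : E) (v w : V) : H.h v (a • w) = H.J a * H.h v w := by
  rw [H.symm (a • w) v, H.smul_left, map_mul, ← H.symm]

theorem zero_left (w : V) : H.h 0 w = 0 := by simpa using H.smul_left 0 0 w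

theorem zero_right (v : V) : H.h v 0 = 0 := by simpa using H.smul_right 0 v 0

theorem sum_left {ι : Type*} (s : Finset ι) (v : ι → V) (w : V) : H.h (∑ i ∈ s, v i) w = ∑ i ∈ s, H.h (v i) w := by
  classical
  induction s using Finset.induction_on with
  | empty => simp [H.zero_left]
  | insert i s hi ih => rw [Finset.sum_insert hi, Finset.sum_insert hi, H.add_left, ih]

theorem sum_right {ι : Type*} (s : Finset ι) (v : V) (w : ι → V) : H.h v (∑ i ∈ s, w i) = ∑ i ∈ s, H.h v (w i) := by
  classical
  induction s using Finset.induction_on with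
  | empty => simp [H.zero_right]
  | insert i s hi ih => rw [Finset.sum_insert hi, Finset.sum_insert hi, H.add_right, ih]

theorem neg_left (v w : V) : H.h (-v) w = - H.h v w := by
  have h := H.add_left v (-v) w
  rw [add_neg_cancel, H.zero_left] at h
  exact (neg_eq_of_add_eq_zero_right h.symm).symm

theorem sub_left (v v' w : V) : H.h (v - v') w = H.h v w - H.h v' w := by
  rw [sub_eq_add_neg, H.add_left, H.neg_left, sub_eq_add_neg]

/-- the associated sesquilinear form in the convention of `HermOrthonormal` -/
noncomputable def sesq : V →ₛₗ[(H.J : E →+* E)] V →ₗ[E] E :=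
  LinearMap.mk₂'ₛₗ (H.J : E →+* E) (RingHom.id E) (fun v w => H.h w v)
    (fun v v' w => H.add_right w v v') (fun a v w => H.smul_right a w v)
    (fun v w w' => H.add_left w w' v) (fun a v w => H.smul_left a w v)

theorem sesq_apply (v w : V) : H.sesq v w = H.h w v := rfl

theorem exists_orthonormal [Finite E] [Module.Finite E V] (hJ : ∃ a, H.J a ≠ a) :
    ∃ c : Module.Basis (Fin (Module.finrank E V)) E V, ∀ i j, H.h (c i) (c j) = if i = j then 1 else 0 := by
  obtain ⟨c, hc⟩ := Cfsg.Agent.ClassicalGeometry.HermOrthonormal.exists_orthonormal_basis (σ := (H.J : E →+* E)) (by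
    intro h
    obtain ⟨a, ha⟩ := hJ
    exact ha (DFunLike.congr_fun h a)) (fun a => H.J_invol a) H.sesq (by
      constructor
      intro x y
      rw [sesq_apply, sesq_apply]
      exact (H.symm y x).symm) (by
      intro x hx
      apply H.nondeg
      intro w
      have h1 := hx w
      rw [sesq_apply] at h1
      rw [H.symm w x, h1, map_zero])
  refine ⟨c, fun i j => ?_⟩
  have h1 := hc j i
  rw [sesq_apply] at h1
  rw [h1]
  simp only [eq_comm]

end Hm

end Cfsg.Agent.H567.FC
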