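import Cfsg.Agent.H567.FC.Herm

/-!
# S5764 [B-C3U]: hyperbolic pairs (helper567)
-/

set_option autoImplicit false

namespace Cfsg.Agent.H567.FC

open Cfsg.Agent.H198.FC

universe u v w

/-- hyperbolic pairs and one more vector -/
structure HB {K : Type u} [Field K] {V : Type v} [AddCommGroup V] [Module K V] {b : Cl K V} {E : Type w} [Field E]
    [Algebra K E] [Module E V] (H : Hm b E) (l : ℕ) where
  e : Fin (l + 1) → V
  f : Fin (l + 1) → V
  d : V
  ee : ∀ i j, H.h (e i) (e j) = 0
  ff : ∀ i j, H.h (f i) (f j) = 0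
  ef : ∀ i j, H.h (e i) (f j) = if i = j then 1 else 0
  ed : ∀ i, H.h (e i) d = 0
  fd : ∀ i, H.h (f i) d = 0
  span : Submodule.span E (Set.range e ∪ Set.range f ∪ {d}) = ⊤

variable {K : Type u} [Field K] {V : Type v} [AddCommGroup V] [Module K V]
  {b : Cl K V} {E : Type w} [Field E] [Algebra K E] [Module E V] (H : Hm b E)

theorem exists_HB' [Finite E] (hJ : ∃ a, H.J a ≠ a) {s : ℕ} (h2 : 2 ≤ s) (c : Module.Basis (Fin s) E V)
    (hc : ∀ i j, H.h (c i) (c j) = if i = j then 1 else 0) : ∃ l, Nonempty (HB H l) := by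
  classical
  have hJ' : (H.J : E →+* E) ≠ RingHom.id E := by
    intro h
    obtain ⟨a, ha⟩ := hJ
    exact ha (DFunLike.congr_fun h a)
  obtain ⟨ζ, hζ⟩ := Cfsg.Agent.ClassicalGeometry.InvolutiveNorm.exists_mul_sigma_eq (σ := (H.J : E →+* E)) hJ'
    (fun a => H.J_invol a) (a := -1) (by simp)
  obtain ⟨κ, hκ⟩ := Cfsg.Agent.ClassicalGeometry.InvolutiveNorm.exists_add_sigma_eq (σ := (H.J : E →+* E)) hJ'
    (fun a => H.J_invol a) (a := -1) (by simp)
  have hζ' : ζ * H.J ζ = -1 := hζ
  have hκ' : κ + H.J κ = -1 := hκ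
  have hζ0 : ζ ≠ 0 := by
    rintro rfl
    rw [zero_mul] at hζ'
    exact neg_ne_zero.2 one_ne_zero hζ'.symm
  obtain ⟨l, hl⟩ : ∃ l, s / 2 = l + 1 := ⟨s / 2 - 1, by omega⟩
  let u : Fin (l + 1) → V := fun i => c ⟨2 * i, by omega⟩
  let w : Fin (l + 1) → V := fun i => c ⟨2 * i + 1, by omega⟩
  let d : V := if h : s % 2 = 1 then c ⟨s - 1, by omega⟩ else 0
  have huu : ∀ i j, H.h (u i) (u j) = if i = j then 1 else 0 := by
    intro i j
    rw [hc]
    simp [Fin.ext_iff]
  have hww : ∀ i j, H.h (w i) (w j) = if i = j then 1 else 0 := by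
    intro i j
    rw [hc]
    simp [Fin.ext_iff]
  have huw : ∀ i j, H.h (u i) (w j) = 0 := by
    intro i j
    rw [hc, if_neg]
    rw [Fin.ext_iff]
    simp only
    omega
  have hwu : ∀ i j, H.h (w i) (u j) = 0 := by
    intro i j
    rw [hc, if_neg]
    rw [Fin.ext_iff]
    simp only
    omega
  have hud : ∀ i, H.h (u i) d = 0 := by
    intro i
    by_cases h : s % 2 = 1
    · simp only [d, dif_pos h]
      rw [hc, if_neg]
      rw [Fin.ext_iff]
      simp only
      omega
    · simp only [d, dif_neg h]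
      exact H.zero_right _
  have hwd : ∀ i, H.h (w i) d = 0 := by
    intro i
    by_cases h : s % 2 = 1
    · simp only [d, dif_pos h]
      rw [hc, if_neg]
      rw [Fin.ext_iff]
      simp only
      omega
    · simp only [d, dif_neg h]
      exact H.zero_right _
  let e : Fin (l + 1) → V := fun i => u i + ζ • w i
  let f : Fin (l + 1) → V := fun i => u i + κ • e i
  have heu : ∀ i j, H.h (e i) (u j) = if i = j then 1 else 0 := by
    intro i j
    show H.h (u i + ζ • w i) (u j) = _
    rw [H.add_left, H.smul_left, huu, hwu, mul_zero, add_zero]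
  have hue : ∀ i j, H.h (u i) (e j) = if i = j then 1 else 0 := by
    intro i j
    show H.h (u i) (u j + ζ • w j) = _
    rw [H.add_right, H.smul_right, huu, huw, mul_zero, add_zero]
  have hee : ∀ i j, H.h (e i) (e j) = 0 := by
    intro i j
    show H.h (e i) (u j + ζ • w j) = _
    rw [H.add_right, heu, H.smul_right]
    show _ + H.J ζ * H.h (u i + ζ • w i) (w j) = _
    rw [H.add_left, H.smul_left, huw, hww]
    by_cases h : i = j
    · rw [if_pos h, zero_add, mul_one, mul_comm, hζ', add_neg_cancel]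
    · rw [if_neg h, mul_zero, add_zero, mul_zero, add_zero]
  have hef : ∀ i j, H.h (e i) (f j) = if i = j then 1 else 0 := by
    intro i j
    show H.h (e i) (u j + κ • e j) = _
    rw [H.add_right, H.smul_right, heu, hee, mul_zero, add_zero]
  have hff : ∀ i j, H.h (f i) (f j) = 0 := by
    intro i j
    show H.h (u i + κ • e i) (f j) = _
    rw [H.add_left, H.smul_left, hef]
    show H.h (u i) (u j + κ • e j) + _ = _
    rw [H.add_right, H.smul_right, huu, hue]
    by_cases h : i = j
    · rw [if_pos h, mul_one, mul_one, add_assoc, add_comm (H.J κ), hκ', add_neg_cancel]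
    · rw [if_neg h, mul_zero, mul_zero, add_zero, add_zero]
  have hed : ∀ i, H.h (e i) d = 0 := by
    intro i
    show H.h (u i + ζ • w i) d = _
    rw [H.add_left, H.smul_left, hud, hwd, mul_zero, add_zero]
  have hfd : ∀ i, H.h (f i) d = 0 := by
    intro i
    show H.h (u i + κ • e i) d = _
    rw [H.add_left, H.smul_left, hud, hed, mul_zero, add_zero]
  refine ⟨l, ⟨⟨e, f, d, hee, hff, hef, hed, hfd, ?_⟩⟩⟩
  set S := Submodule.span E (Set.range e ∪ Set.range f ∪ {d}) with hS
  have he : ∀ i, e i ∈ S := fun i => Submodule.subset_span (Or.inl (Or.inl ⟨i, rfl⟩))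
  have hf : ∀ i, f i ∈ S := fun i => Submodule.subset_span (Or.inl (Or.inr ⟨i, rfl⟩))
  have hd : d ∈ S := Submodule.subset_span (Or.inr rfl)
  have hu : ∀ i, u i ∈ S := by
    intro i
    have h1 : u i = f i - κ • e i := by
      show u i = u i + κ • e i - κ • e i
      rw [add_sub_cancel_right]
    rw [h1]
    exact S.sub_mem (hf i) (S.smul_mem _ (he i))
  have hw : ∀ i, w i ∈ S := by
    intro i
    have h1 : w i = ζ⁻¹ • (e i - u i) := by
      show w i = ζ⁻¹ • (u i + ζ • w i - u i)
      rw [add_sub_cancel_left, smul_smul, inv_mul_cancel₀ hζ0, one_smul]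
    rw [h1]
    exact S.smul_mem _ (S.sub_mem (he i) (hu i))
  rw [eq_top_iff, ← c.span_eq, Submodule.span_le]
  rintro _ ⟨j, rfl⟩
  have hj := j.2
  rcases Nat.even_or_odd' (j : ℕ) with ⟨i, hi | hi⟩
  · by_cases hil : i < l + 1
    · have h1 : c j = u ⟨i, hil⟩ := by
        show c j = c _
        congr 1
        exact Fin.ext hi
      rw [h1]
      exact hu _
    · have h3 : s % 2 = 1 := by omega
      have h1 : c j = d := by
        simp only [d, dif_pos h3]
        congr 1
        rw [Fin.ext_iff]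
        simp only
        omega
      rw [h1]
      exact hd
  · have hil : i < l + 1 := by omega
    have h1 : c j = w ⟨i, hil⟩ := by
      show c j = c _
      congr 1
      exact Fin.ext hi
    rw [h1]
    exact hw _

theorem exists_HB [Finite E] [Module.Finite E V] (hJ : ∃ a, H.J a ≠ a) (h2 : 2 ≤ Module.finrank E V) :
    ∃ l, Nonempty (HB H l) := by
  obtain ⟨c, hc⟩ := H.exists_orthonormal hJ
  exact exists_HB' H hJ h2 c hc

end Cfsg.Agent.H567.FC
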