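import Cfsg.Agent.H567.FC.Main
import Cfsg.Agent.S2904

/-!
# S5764 [B-C3V]: `n = e`, arithmetic (helper567)
-/

set_option autoImplicit false
set_option linter.style.haveILetI false

namespace Cfsg.Agent.H567.FC

open Cfsg.Agent.H198.FC

universe u v w

section fld

variable {E : Type*} [Field E] [Finite E]

/-- the fixed field -/
def Fx (σ : E ≃+* E) : Subfield E where
  carrier := {a | σ a = a}
  one_mem' := map_one σ
  zero_mem' := map_zero σ
  mul_mem' := fun {a b} ha hb => by
    rw [Set.mem_setOf_eq] at ha hb ⊢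
    rw [map_mul, ha, hb]
  add_mem' := fun {a b} ha hb => by
    rw [Set.mem_setOf_eq] at ha hb ⊢
    rw [map_add, ha, hb]
  neg_mem' := fun {a} ha => by
    rw [Set.mem_setOf_eq] at ha ⊢
    rw [map_neg, ha]
  inv_mem' := fun a ha => by
    rw [Set.mem_setOf_eq] at ha ⊢
    rw [map_inv₀, ha]

theorem mem_Fx {σ : E ≃+* E} {a : E} : a ∈ Fx σ ↔ σ a = a := Iff.rfl

/-- a prime `r` dividing `|E^×|` but no `|F^×|` for proper subfields `F` -/
def Prim (E : Type*) [Field E] (r : ℕ) : Prop := r.Prime ∧ r ∣ Nat.card Eˣ ∧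
  ∀ F : Subfield E, F ≠ ⊤ → ∀ y ∈ F, y ^ r = 1 → y = 1

theorem exists_prim {p N : ℕ} (hp : p.Prime) (hE : Nat.card E = p ^ N) (hN : 2 < N) (h6 : ¬ (p = 2 ∧ N = 6)) :
    ∃ r, Prim E r := by
  haveI := Fact.mk hp
  obtain ⟨r, hr, hrd, hrn⟩ := Cfsg.Agent.S2904.result p N hp.one_lt (by omega) h6 (by
    rintro ⟨h, -⟩
    omega)
  refine ⟨r, hr, ?_, ?_⟩
  · rw [Nat.card_units, hE]
    exact hrd
  · intro F hF y hy hyr
    by_contra hy1
    have hy0 : y ≠ 0 := by
      rintro rfl
      rw [zero_pow hr.ne_zero] at hyr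
      exact zero_ne_one hyr
    haveI : Finite F := inferInstance
    haveI := Fintype.ofFinite F
    haveI := Fintype.ofFinite E
    haveI hcE : CharP E p := charP_of_card_eq_prime_pow (f := N) (by rw [← Nat.card_eq_fintype_card, hE])
    haveI hcF : CharP F p := (algebraMap F E).charP (algebraMap F E).injective p
    obtain ⟨j, -, hj⟩ := FiniteField.card F p
    have hcard : Nat.card E = Nat.card F ^ Module.finrank F E := Module.natCard_eq_pow_finrank
    have hm : Module.finrank F E ≠ 1 := by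
      intro h
      apply hF
      have h1 : (⊥ : Subalgebra F E) = ⊤ := Subalgebra.bot_eq_top_iff_finrank_eq_one.2 h
      rw [eq_top_iff]
      intro x _
      have h2 : x ∈ (⊥ : Subalgebra F E) := by rw [h1]; trivial
      obtain ⟨z, rfl⟩ := Algebra.mem_bot.1 h2
      exact z.2
    have hm0 : Module.finrank F E ≠ 0 := Module.finrank_pos.ne'
    have hjN : (j : ℕ) * Module.finrank F E = N := by
      rw [hE, Nat.card_eq_fintype_card, hj, ← pow_mul] at hcard
      exact (Nat.pow_right_injective hp.two_le hcard).symm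
    have hjlt : (j : ℕ) < N := by
      rw [← hjN]
      have h1 : 2 ≤ Module.finrank F E := by omega
      have h2 : 0 < (j : ℕ) := j.pos
      nlinarith
    apply hrn j j.pos hjlt
    haveI := Fact.mk hr
    have h1 : orderOf (Units.mk0 (⟨y, hy⟩ : F) (fun h => hy0 (congrArg Subtype.val h))) = r := by
      apply orderOf_eq_prime_iff.2
      refine ⟨?_, ?_⟩
      · apply Units.ext
        apply Subtype.ext
        simpa using hyr
      · intro h
        have h2 := congrArg (fun z : Fˣ => ((z : F) : E)) h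
        exact hy1 (by simpa using h2)
    have h2 := orderOf_dvd_natCard (Units.mk0 (⟨y, hy⟩ : F) (fun h => hy0 (congrArg Subtype.val h)))
    rw [h1, Nat.card_units, Nat.card_eq_fintype_card, hj] at h2
    exact h2

variable {K : Type*} [Field K] [Algebra K E]

theorem mem_range_of_fixed (hp : (Module.finrank K E).Prime) {ρ : E ≃ₐ[K] E} (hρ : ρ ≠ 1) {a : E} (ha : ρ a = a) :
    ∃ k : K, algebraMap K E k = a := by
  haveI := Fact.mk hp
  haveI : Finite K := Finite.of_injective _ (FaithfulSMul.algebraMap_injective K E)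
  have h1 : a ∈ (⊥ : IntermediateField K E) := by
    rw [IsGalois.mem_bot_iff_fixed]
    intro f
    have h2 : Nat.card (E ≃ₐ[K] E) = Module.finrank K E := IsGalois.card_aut_eq_finrank K E
    have h3 := mem_zpowers_of_prime_card h2 hρ (g' := f)
    obtain ⟨j, rfl⟩ := Subgroup.mem_zpowers_iff.1 h3
    have h4 : ρ ∈ MulAction.stabilizer (E ≃ₐ[K] E) a := ha
    exact (MulAction.stabilizer (E ≃ₐ[K] E) a).zpow_mem h4 j
  rw [IntermediateField.mem_bot] at h1
  exact h1

theorem alg_indep {c : (E ≃ₐ[K] E) → E} [Fintype (E ≃ₐ[K] E)] (h : ∀ y : E, ∑ ρ, c ρ * ρ y = 0) : ∀ ρ, c ρ = 0 := by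
  have h1 := linearIndependent_monoidHom E E
  have h2 : LinearIndependent E (fun ρ : E ≃ₐ[K] E => ((ρ : E →* E) : E → E)) :=
    h1.comp (fun ρ : E ≃ₐ[K] E => (ρ : E →* E)) (fun ρ ρ' h => AlgEquiv.ext fun a => DFunLike.congr_fun h a)
  rw [Fintype.linearIndependent_iff] at h2
  refine h2 c ?_
  funext y
  simp only [Finset.sum_apply, Pi.smul_apply, smul_eq_mul, Pi.zero_apply]
  exact h y

/-- the computation -/
theorem types_one (hp : (Module.finrank K E).Prime) (h3 : 3 ≤ Module.finrank K E) {α : K} (hα : α ≠ 0) {c : E}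
    (hc0 : c ≠ 0) (hc : Algebra.trace K E c = 0) {a a' : E} (ha : a ≠ 0) {s : E ≃ₐ[K] E}
    (h : ∀ y : E, a' * (s y + algebraMap K E (α * Algebra.trace K E (c * y))) =
      a * y + algebraMap K E (α * Algebra.trace K E (c * (a * y)))) : ∃ k : K, algebraMap K E k = a := by
  classical
  haveI : Finite K := Finite.of_injective _ (FaithfulSMul.algebraMap_injective K E)
  have hcard : Fintype.card (E ≃ₐ[K] E) = Module.finrank K E := by
    rw [← Nat.card_eq_fintype_card]
    exact IsGalois.card_aut_eq_finrank K E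
  set A : E := algebraMap K E α with hA
  have hA0 : A ≠ 0 := by
    rw [hA, Ne, FaithfulSMul.algebraMap_eq_zero_iff]
    exact hα
  have hAs : ∀ ρ : E ≃ₐ[K] E, ρ A = A := fun ρ => ρ.commutes α
  have key : ∀ ρ : E ≃ₐ[K] E, (if ρ = s then a' else 0) + A * ρ c * a' =
      (if ρ = 1 then a else 0) + A * ρ a * ρ c := by
    intro ρ
    rw [← sub_eq_zero]
    refine alg_indep (K := K) (c := fun ρ : E ≃ₐ[K] E => ((if ρ = s then a' else 0) + A * ρ c * a') -
      ((if ρ = 1 then a else 0) + A * ρ a * ρ c)) ?_ ρ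
    intro y
    have h1 := h y
    rw [(algebraMap K E).map_mul, (algebraMap K E).map_mul, trace_eq_sum_automorphisms, trace_eq_sum_automorphisms,
      ← hA, ← sub_eq_zero] at h1
    simp only [sub_mul, add_mul, ite_mul, zero_mul, Finset.sum_sub_distrib, Finset.sum_add_distrib,
      Finset.sum_ite_eq', Finset.mem_univ, if_true]
    rw [← h1, mul_add, Finset.mul_sum, Finset.mul_sum, Finset.mul_sum]
    congr 1
    · congr 1
      refine Finset.sum_congr rfl fun ρ _ => ?_
      rw [map_mul]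
      ring
    · congr 1
      refine Finset.sum_congr rfl fun ρ _ => ?_
      rw [map_mul, map_mul]
      ring
  have hc' : ∀ ρ : E ≃ₐ[K] E, ρ c ≠ 0 := fun ρ h => hc0 (by
    have := congrArg ρ.symm h
    simpa using this)
  have h1 : ∀ ρ : E ≃ₐ[K] E, ρ ≠ 1 → ρ ≠ s → ρ a = a' := by
    intro ρ hρ1 hρs
    have h2 := key ρ
    rw [if_neg hρ1, if_neg hρs, zero_add, zero_add] at h2
    have h4 : A * ρ c * a' = A * ρ c * ρ a := by rw [h2]; ring
    exact (mul_left_cancel₀ (mul_ne_zero hA0 (hc' ρ)) h4).symm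
  have h2 : ∀ ρ₁ ρ₂ : E ≃ₐ[K] E, ρ₁ ≠ ρ₂ → ρ₁ a = ρ₂ a → ∃ k : K, algebraMap K E k = a := by
    intro ρ₁ ρ₂ hne he
    refine mem_range_of_fixed hp (ρ := ρ₂⁻¹ * ρ₁) (fun h => hne (inv_mul_eq_one.1 h).symm) ?_
    show ρ₂.symm (ρ₁ a) = a
    rw [he, ρ₂.symm_apply_apply]
  by_cases hT : 1 < (Finset.univ \ {1, s} : Finset (E ≃ₐ[K] E)).card
  · obtain ⟨ρ₁, hρ₁, ρ₂, hρ₂, hne⟩ := Finset.one_lt_card.1 hT
    simp only [Finset.mem_sdiff, Finset.mem_univ, true_and, Finset.mem_insert, Finset.mem_singleton, not_or] at hρ₁ hρ₂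
    exact h2 ρ₁ ρ₂ hne (by rw [h1 ρ₁ hρ₁.1 hρ₁.2, h1 ρ₂ hρ₂.1 hρ₂.2])
  -- `n = 3`, `s ≠ 1`
  have h4 : (Finset.univ \ {1, s} : Finset (E ≃ₐ[K] E)).card = Module.finrank K E - ({1, s} : Finset (E ≃ₐ[K] E)).card := by
    rw [Finset.card_sdiff_of_subset (Finset.subset_univ _), Finset.card_univ, hcard]
  have hs1 : s ≠ 1 := by
    rintro rfl
    rw [Finset.pair_eq_singleton] at h4 hT
    rw [Finset.card_singleton] at h4
    omega
  have h5 : ({1, s} : Finset (E ≃ₐ[K] E)).card = 2 := Finset.card_pair hs1.symm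
  have hn3 : Module.finrank K E = 3 := by omega
  have hs3 : s ^ 3 = 1 := by
    have h6 := pow_card_eq_one' (x := s)
    rw [Nat.card_eq_fintype_card, hcard, hn3] at h6
    exact h6
  have hs3' : ∀ y, s (s (s y)) = y := by
    intro y
    have h6 := congrArg (fun f : E ≃ₐ[K] E => f y) hs3
    exact h6
  have hss : s * s ≠ 1 := by
    intro h6
    apply hs1
    have h7 : s ^ 3 = s * (s * s) := by rw [pow_succ, pow_two, mul_assoc]
    rw [hs3, h6, mul_one] at h7
    exact h7.symm
  have hss' : s * s ≠ s := by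
    intro h6
    apply hs1
    exact mul_left_cancel (h6.trans (mul_one s).symm)
  have ha' : a' = s (s a) := (h1 (s * s) hss hss').symm
  have eA := key 1
  rw [if_neg hs1.symm, if_pos rfl, zero_add] at eA
  have eA' : A * c * a' = a + A * a * c := eA
  have eB := key s
  rw [if_pos rfl, if_neg hs1, zero_add] at eB
  rw [ha'] at eA' eB
  -- apply `s` to `eA'`
  have eC := congrArg s eA'
  simp only [map_mul, map_add, hAs, hs3'] at eC
  -- `s(a)² = a s²(a)`
  have hsa : s a ≠ 0 := fun h => ha (by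
    have := congrArg s.symm h
    simpa using this)
  have hAc : A * s c ≠ 0 := mul_ne_zero hA0 (hc' s)
  have eD : A * s c * (s a * s a) = A * s c * (a * s (s a)) := by
    linear_combination (-s a) * eB + (-s (s a)) * eC
  have eD' : s a * s a = a * s (s a) := mul_left_cancel₀ hAc eD
  set r : E := s a / a with hr
  have hra : s a = r * a := by rw [hr, div_mul_cancel₀ _ ha]
  have hsr : s r = r := by
    rw [hr, map_div₀, div_eq_div_iff hsa ha, mul_comm, ← eD']
  have hssa : s (s a) = r * (r * a) := by rw [hra, map_mul, hsr, hra]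
  have hr3 : r * r * r = 1 := by
    have h6 := hs3' a
    rw [hssa, map_mul, map_mul, hsr, hra] at h6
    have h7 : r * r * r * a = 1 * a := by rw [one_mul]; linear_combination h6
    exact mul_right_cancel₀ ha h7
  obtain ⟨k, hk⟩ := mem_range_of_fixed hp hs1 hsr
  have eE : A * c * (r * r - 1) = 1 := by
    rw [hssa] at eA'
    have h6 : A * c * (r * r - 1) * a = 1 * a := by linear_combination eA'
    exact mul_right_cancel₀ ha h6
  have hr0 : r * r - 1 ≠ 0 := by
    intro h6
    rw [h6, mul_zero] at eE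
    exact zero_ne_one eE
  have hck : c = algebraMap K E ((α * (k * k - 1))⁻¹) := by
    rw [map_inv₀, map_mul, map_sub, map_mul, hk, map_one, ← hA]
    apply eq_inv_of_mul_eq_one_left
    linear_combination eE
  have h30 : (3 : K) = 0 := by
    rw [hck, Algebra.trace_algebraMap, hn3] at hc
    rw [nsmul_eq_mul] at hc
    rcases mul_eq_zero.1 hc with h6 | h6
    · exact_mod_cast h6
    · exfalso
      apply hc0
      rw [hck, h6, map_zero]
  exfalso
  have h30E : (3 : E) = 0 := by
    have h6 := congrArg (algebraMap K E) h30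
    rw [map_ofNat, map_zero] at h6
    exact h6
  have h6 : (r - 1) ^ 3 = 0 := by
    linear_combination hr3 + (r - r * r) * h30E
  have h7 : r - 1 = 0 := pow_eq_zero_iff (by norm_num) |>.1 h6
  have h8 : r = 1 := by linear_combination h7
  apply hr0
  rw [h8]
  ring

end fld

end Cfsg.Agent.H567.FC
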