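import Cfsg.Agent.H567.FC.OneA
import Cfsg.Agent.H786.FC.Parts

/-!
# S5764 [B-C3V]: unitary, `n = e` odd prime (helper567)

`x` a unitary transvection, `v ∈ E` of order a primitive prime divisor of `|E| - 1`: `x`, `x v` suffice.
-/

set_option autoImplicit false
set_option linter.style.haveILetI false

namespace Cfsg.Agent.H567.FC

open Cfsg.Agent.H198.FC

universe u v w

section

variable {K : Type u} [Field K] {V : Type v} [AddCommGroup V] [Module K V]

/-- `b` itself as a hermitian form over `K` -/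
theorem exists_HmK [Finite K] [Module.Finite K V] [Nontrivial V] {b : Cl K V} (hU : b.IsU) : Nonempty (Hm b K) :=
  exists_Hm hU fun a => ⟨b.τ a, fun v w => by rw [b.smul_left, b.smul_right, b.invol]⟩

/-- a unitary transvection -/
theorem exists_transv [Finite K] [Module.Finite K V] {b : Cl K V} (hU : b.IsU) (h2 : 2 ≤ Module.finrank K V) :
    ∃ (u : V) (α : K) (x : (R K V)ˣ), u ≠ 0 ∧ b.B u u = 0 ∧ α ≠ 0 ∧ LinearMap.det ((x : (R K V)ˣ) : R K V) = 1 ∧
      b.Isom x ∧ ∀ w, (x : R K V) w = w + (α * b.B w u) • u := by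
  haveI : Nontrivial V := Module.nontrivial_of_finrank_pos (R := K) (by omega)
  obtain ⟨H⟩ := exists_HmK hU
  have hHB : ∀ v w, H.h v w = b.B v w := fun v w => by
    rw [H.tr, Algebra.trace_self_apply]
  obtain ⟨α', hα'⟩ := hU.1
  have hJ : ∃ a, H.J a ≠ a := ⟨α', fun h => hα' (by
    have h1 := H.J_alg α'
    simp only [Algebra.algebraMap_self, RingHom.id_apply] at h1
    rw [← h1, h])⟩
  obtain ⟨l, ⟨P⟩⟩ := exists_HB H hJ h2
  have hu0 : P.e 0 ≠ 0 := by
    intro h
    have h1 := P.ef 0 0
    rw [h, H.zero_left, if_pos rfl] at h1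
    exact zero_ne_one h1
  have huu : b.B (P.e 0) (P.e 0) = 0 := by rw [← hHB, P.ee]
  have hid : ∀ k : K, (RingEquiv.refl K) (algebraMap K K k) = algebraMap K K k := fun k => rfl
  obtain ⟨x, xd, xi, xx⟩ := exists_x H (κ := Unit) (fun _ => α' • P.e 0) (fun _ => P.e 0) hU hid
    (fun i j => by rw [H.smul_left, H.smul_right, P.ee, mul_zero, mul_zero])
    (fun i j => by rw [H.smul_left, P.ee, mul_zero]) (fun i j => P.ee _ _)
  refine ⟨P.e 0, α' - b.τ α', x, hu0, huu, sub_ne_zero.2 (Ne.symm hα'), xd, xi, fun w => ?_⟩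
  have hrs : ∀ y : K, (RingEquiv.refl K).symm y = y := fun y => rfl
  rw [xx, TT_apply, TT_apply]
  simp only [Finset.univ_unique, Finset.sum_singleton, RingEquiv.refl_apply, hrs, H.smul_right]
  have hJα : H.J α' = b.τ α' := by
    have h1 := H.J_alg α'
    simpa using h1
  rw [hHB, hJα, smul_smul, add_sub_assoc, ← sub_smul]
  congr 2
  ring

end

section

variable {K : Type u} [Field K] [Finite K] {V : Type v} [AddCommGroup V] [Module K V] [Module.Finite K V]
  {E : Type w} [Field E] [Finite E] [Algebra K E] [Module E V] [IsScalarTower K E V] {b : Cl K V}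

/-- homotheties of `V` by elements of `E^×` -/
noncomputable def hE (E : Type w) [Field E] [Algebra K E] [Module E V] [IsScalarTower K E V] (a : Eˣ) : (R K V)ˣ :=
  Units.map (Algebra.lsmul K K V : E →ₐ[K] R K V).toRingHom.toMonoidHom a

omit [Finite K] [Module.Finite K V] [Finite E] in
theorem hE_apply (a : Eˣ) (w : V) : ((hE E a : (R K V)ˣ) : R K V) w = (a : E) • w := rfl

omit [Finite K] [Module.Finite K V] [Finite E] in
theorem hE_inv_apply (a : Eˣ) (w : V) : (((hE E a)⁻¹ : (R K V)ˣ) : R K V) w = ((a⁻¹ : Eˣ) : E) • w := by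
  rw [hE, ← map_inv]
  rfl

/-- (1) -/
theorem one_step [Nontrivial V] (H : Hm b E) (h1 : Module.finrank E V = 1) (hp : (Module.finrank K E).Prime)
    (h3 : 3 ≤ Module.finrank K E) {u : V} {α : K} {x : (R K V)ˣ} (hu : u ≠ 0) (huu : b.B u u = 0) (hα : α ≠ 0)
    (hx : ∀ w, (x : R K V) w = w + (α * b.B w u) • u) (a : Eˣ)
    (ha : Nrm E (cj K V x * cj K V (hE E a) * (cj K V x)⁻¹)) : ∃ k : K, algebraMap K E k = a := by
  have hxi : ∀ u, (x : R K V) (((x⁻¹ : (R K V)ˣ) : R K V) u) = u := by
    intro u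
    have h := congrArg (fun X : R K V => X u) (Units.mul_inv x)
    exact h
  have hix : ∀ u, ((x⁻¹ : (R K V)ˣ) : R K V) ((x : R K V) u) = u := by
    intro u
    have h := congrArg (fun X : R K V => X u) (Units.inv_mul x)
    exact h
  set z : (R K V)ˣ := x * hE E a * x⁻¹ with hz
  have hzf : cj K V x * cj K V (hE E a) * (cj K V x)⁻¹ = cj K V z := by
    rw [hz, map_mul, map_mul, map_inv]
  rw [hzf] at ha
  have hzz : ∀ w, ((z⁻¹ : (R K V)ˣ) : R K V) ((z : R K V) w) = w := by
    intro w
    have h := congrArg (fun X : R K V => X w) (Units.inv_mul z)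
    exact h
  have hzz' : ∀ w, (z : R K V) (((z⁻¹ : (R K V)ˣ) : R K V) w) = w := by
    intro w
    have h := congrArg (fun X : R K V => X w) (Units.mul_inv z)
    exact h
  obtain ⟨σ, hσ⟩ := semilin ha (g := fun w => (z : R K V) w) (fun w => ⟨_, hzz' w⟩)
    (fun v v' => map_add _ v v') (fun X w => by
      show (z : R K V) (X (((z⁻¹ : (R K V)ˣ) : R K V) ((z : R K V) w))) = _
      rw [hzz])
  -- coordinates
  have hsurj : ∀ w : V, ∃ y : E, w = y • u := by
    intro w
    have h4 := (finrank_eq_one_iff_of_nonzero' (K := E) u hu).1 h1 w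
    obtain ⟨y, hy⟩ := h4
    exact ⟨y, hy.symm⟩
  have hinj : ∀ {y y' : E}, y • u = y' • u → y = y' := by
    intro y y' h
    rw [← sub_eq_zero, ← sub_smul, smul_eq_zero] at h
    rcases h with h | h
    · exact sub_eq_zero.1 h
    · exact absurd h hu
  set c : E := H.h u u with hc
  have hB : ∀ y : E, b.B (y • u) u = Algebra.trace K E (c * y) := by
    intro y
    rw [H.tr, H.smul_left, mul_comm]
  have hc0 : c ≠ 0 := by
    intro h
    apply hu
    apply H.nondeg
    intro w
    obtain ⟨y, rfl⟩ := hsurj w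
    rw [H.smul_right, ← hc, h, mul_zero]
  have htc : Algebra.trace K E c = 0 := by
    rw [← huu, H.tr]
  have hσK : ∀ k : K, σ (algebraMap K E k) = algebraMap K E k := by
    intro k
    have h4 := hσ (algebraMap K E k) u
    simp only [algebraMap_smul, map_smul] at h4
    have h5 : (z : R K V) u ≠ 0 := by
      intro h6
      apply hu
      have h7 := hzz u
      rw [h6, map_zero] at h7
      exact h7.symm
    rw [← algebraMap_smul E k ((z : R K V) u), ← sub_eq_zero, ← sub_smul, smul_eq_zero] at h4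
    rcases h4 with h4 | h4
    · exact (sub_eq_zero.1 h4).symm
    · exact absurd h4 h5
  let s : E ≃ₐ[K] E := AlgEquiv.ofRingEquiv (f := σ) hσK
  obtain ⟨a', ha'⟩ := hsurj ((z : R K V) u)
  refine types_one hp h3 hα hc0 htc (a' := a') a.ne_zero (s := s) fun y => hinj ?_
  have h4 : (z : R K V) ((x : R K V) (y • u)) = (x : R K V) ((a : E) • y • u) := by
    rw [← hE_apply (K := K), hz]
    show (x : R K V) (((hE E a : (R K V)ˣ) : R K V) (((x⁻¹ : (R K V)ˣ) : R K V) ((x : R K V) (y • u)))) = _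
    rw [hix]
  have hxy : ∀ y : E, (x : R K V) (y • u) = (y + algebraMap K E (α * Algebra.trace K E (c * y))) • u := by
    intro y
    rw [hx, hB, add_smul, algebraMap_smul]
  rw [hxy, ← mul_smul, hxy] at h4
  have h5 := hσ (y + algebraMap K E (α * Algebra.trace K E (c * y))) u
  rw [h5, ha', map_add, hσK, ← mul_smul] at h4
  rw [mul_comm a']
  exact h4

theorem five_one [Nontrivial V] (hU : b.IsU) (hadj : ∀ a : E, ∃ a' : E, ∀ v w, b.B (a • v) w = b.B v (a' • w))
    (h1 : Module.finrank E V = 1) (hp : (Module.finrank K E).Prime) (h3 : 3 ≤ Module.finrank K E) {r : ℕ}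
    (hr : Prim E r) (S : Subgroup (Equiv.Perm (R K V))) (hS : S ≤ RP K V) (hN : ∀ f ∈ S, Nrm E f) : FiveB b S := by
  obtain ⟨H⟩ := exists_Hm (E := E) hU hadj
  have hn : Module.finrank K E * Module.finrank E V = Module.finrank K V := Module.finrank_mul_finrank K E V
  rw [h1, mul_one] at hn
  obtain ⟨u, α, x, hu, huu, hα, xd, xi, hx⟩ := exists_transv hU (by omega)
  obtain ⟨hrp, hrd, hrs⟩ := hr
  haveI := Fact.mk hrp
  haveI := Fintype.ofFinite Eˣ
  obtain ⟨v, hv⟩ := exists_prime_orderOf_dvd_card' (G := Eˣ) r hrd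
  have hvr : v ^ r = 1 := by rw [← hv]; exact pow_orderOf_eq_one v
  have hvr' : (v : E) ^ r = 1 := by
    have := congrArg Units.val hvr
    simpa using this
  have hv1 : (v : E) ≠ 1 := by
    intro h
    have h4 : v = 1 := Units.ext h
    rw [h4, orderOf_one] at hv
    exact hrp.one_lt.ne hv
  -- `v J(v) = 1`
  obtain ⟨a₀, ha₀⟩ := hU.1
  have hJv : H.J v * v = 1 := by
    refine hrs (Fx H.J) ?_ _ ?_ ?_
    · intro h
      apply ha₀
      have h4 : algebraMap K E a₀ ∈ Fx H.J := by rw [h]; trivial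
      rw [mem_Fx, H.J_alg] at h4
      exact FaithfulSMul.algebraMap_injective K E h4
    · rw [mem_Fx, map_mul, H.J_invol, mul_comm]
    · rw [mul_pow, ← map_pow, hvr', map_one, one_mul]
  -- the range of `K`
  have hKtop : (algebraMap K E).fieldRange ≠ ⊤ := by
    intro h
    have h4 : (⊥ : Subalgebra K E) = ⊤ := by
      rw [eq_top_iff]
      intro y _
      rw [Algebra.mem_bot]
      have h5 : y ∈ (algebraMap K E).fieldRange := by rw [h]; trivial
      exact h5
    rw [Subalgebra.bot_eq_top_iff_finrank_eq_one] at h4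
    omega
  have hKr : ∀ k : K, k ^ r = 1 → k = 1 := by
    intro k hk
    apply FaithfulSMul.algebraMap_injective K E
    rw [map_one]
    refine hrs _ hKtop _ ⟨k, rfl⟩ ?_
    rw [← map_pow, hk, map_one]
  have hdet : LinearMap.det ((hE E v : (R K V)ˣ) : R K V) = 1 := by
    apply hKr
    rw [← map_pow, ← Units.val_pow_eq_pow_val]
    have h4 : (hE E v : (R K V)ˣ) ^ r = 1 := by
      rw [hE, ← map_pow, hvr, map_one]
    rw [h4, Units.val_one, map_one]
  have hiso : b.Isom ((hE E v : (R K V)ˣ) : R K V) := by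
    intro w w'
    rw [hE_apply, hE_apply, H.tr, H.tr, H.smul_left, H.smul_right]
    have h4 : (v : E) * (H.J v * H.h w w') = (H.J v * v) * H.h w w' := by ring
    rw [h4, hJv, one_mul]
  refine ⟨![x, x * hE E v, 1, 1], ?_, ?_, ?_⟩
  · intro i
    fin_cases i
    · exact xd
    · show LinearMap.det ((x * hE E v : (R K V)ˣ) : R K V) = 1
      rw [Units.val_mul, map_mul, xd, hdet, one_mul]
    · show LinearMap.det ((1 : (R K V)ˣ) : R K V) = 1
      rw [Units.val_one, map_one]
    · show LinearMap.det ((1 : (R K V)ˣ) : R K V) = 1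
      rw [Units.val_one, map_one]
  · intro i
    fin_cases i
    · exact xi
    · intro w w'
      show b.B ((x : R K V) (((hE E v : (R K V)ˣ) : R K V) w)) ((x : R K V) (((hE E v : (R K V)ˣ) : R K V) w')) = _
      rw [xi, hiso]
    · intro w w'; rfl
    · intro w w'; rfl
  · intro f hf hi
    have hi0 : cj K V x * f * (cj K V x)⁻¹ ∈ S := hi 0
    have hi1 : cj K V (x * hE E v) * f * (cj K V (x * hE E v))⁻¹ ∈ S := hi 1
    have hnK : 1 ≤ Module.finrank K V := Module.finrank_pos
    obtain ⟨g, ⟨hga, -⟩, hfg⟩ := Cfsg.Agent.H277.FC.stmtSN.{u, v} K V hnK f (hS hf)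
    obtain ⟨σ, hσ⟩ := semilin (hN f hf) g.surjective hga hfg
    -- `f (a) = σ a`
    have hfa : ∀ a : Eˣ, f * cj K V (hE E a) * f⁻¹ = cj K V (hE E (Units.map σ.toRingHom.toMonoidHom a)) := by
      intro a
      have h4 : f * cj K V (hE E a) = cj K V (hE E (Units.map σ.toRingHom.toMonoidHom a)) * f := by
        apply Equiv.ext
        intro X
        apply LinearMap.ext
        intro w
        obtain ⟨w, rfl⟩ := g.surjective w
        show f (((hE E a : (R K V)ˣ) : R K V) * X * (((hE E a)⁻¹ : (R K V)ˣ) : R K V)) (g w) = _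
        rw [hfg]
        show g (((hE E a : (R K V)ˣ) : R K V) (X ((((hE E a)⁻¹ : (R K V)ˣ) : R K V) w))) = _
        rw [hE_inv_apply, hE_apply, hσ]
        show _ = ((hE E (Units.map σ.toRingHom.toMonoidHom a) : (R K V)ˣ) : R K V)
          (f X ((((hE E (Units.map σ.toRingHom.toMonoidHom a))⁻¹ : (R K V)ˣ) : R K V) (g w)))
        rw [hE_inv_apply, hE_apply, ← map_inv]
        show σ a • g (X (((a⁻¹ : Eˣ) : E) • w)) = σ a • f X (σ ((a⁻¹ : Eˣ) : E) • g w)
        rw [← hσ ((a⁻¹ : Eˣ) : E) w, hfg]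
      rw [h4, mul_inv_cancel_right]
    -- the commutator
    set c : Eˣ := v * (Units.map σ.toRingHom.toMonoidHom v)⁻¹ with hcdef
    have hcS : cj K V x * cj K V (hE E c) * (cj K V x)⁻¹ ∈ S := by
      have h4 := S.mul_mem hi1 (S.inv_mem hi0)
      have h5 : cj K V (x * hE E v) * f * (cj K V (x * hE E v))⁻¹ * (cj K V x * f * (cj K V x)⁻¹)⁻¹ =
          cj K V x * (cj K V (hE E v) * (f * (cj K V (hE E v)) * f⁻¹)⁻¹) * (cj K V x)⁻¹ := by
        rw [map_mul]
        group
      rw [h5, hfa, ← map_inv, ← map_mul] at h4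
      have h6 : hE E v * (hE E (Units.map σ.toRingHom.toMonoidHom v) : (R K V)ˣ)⁻¹ = hE E c := by
        rw [hcdef, hE, hE, hE, ← map_inv, ← map_mul]
      rw [h6] at h4
      exact h4
    obtain ⟨k, hk⟩ := one_step H h1 hp h3 hu huu hα hx c (hN _ hcS)
    have hkr : k ^ r = 1 := by
      apply FaithfulSMul.algebraMap_injective K E
      rw [map_pow, hk, map_one, ← Units.val_pow_eq_pow_val, hcdef, mul_pow, inv_pow, ← map_pow, hvr, map_one, inv_one,
        mul_one, Units.val_one]
    have hk1 := hKr k hkr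
    rw [hk1, map_one] at hk
    have hσv : σ v = v := by
      have h4 : c = 1 := Units.ext hk.symm
      rw [hcdef, mul_inv_eq_one] at h4
      have h5 := congrArg Units.val h4
      exact h5.symm
    have hσ1 : ∀ a, σ a = a := by
      have h4 : Fx σ = ⊤ := by
        by_contra h
        exact hv1 (hrs (Fx σ) h v hσv hvr')
      intro a
      have h5 : a ∈ Fx σ := by rw [h4]; trivial
      exact h5
    -- `g` is a homothety of `E`
    obtain ⟨a, ha⟩ : ∃ a : E, g u = a • u := by
      have h4 := (finrank_eq_one_iff_of_nonzero' (K := E) u hu).1 h1 (g u)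
      obtain ⟨y, hy⟩ := h4
      exact ⟨y, hy.symm⟩
    have g0 : g 0 = 0 := by simpa using hga 0 0
    have ha0 : a ≠ 0 := by
      rintro rfl
      rw [zero_smul, ← g0] at ha
      exact hu (g.injective ha)
    have hga' : ∀ w, g w = a • w := by
      intro w
      obtain ⟨y, hy⟩ := (finrank_eq_one_iff_of_nonzero' (K := E) u hu).1 h1 w
      rw [← hy, hσ, hσ1, ha, smul_comm]
    have hfcj : f = cj K V (hE E (Units.mk0 a ha0)) := by
      apply Equiv.ext
      intro X
      apply LinearMap.ext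
      intro w
      obtain ⟨w, rfl⟩ := g.surjective w
      rw [hfg]
      show _ = ((hE E (Units.mk0 a ha0) : (R K V)ˣ) : R K V)
          (X ((((hE E (Units.mk0 a ha0))⁻¹ : (R K V)ˣ) : R K V) (g w)))
      rw [hE_inv_apply, hE_apply, hga', hga']
      show a • X w = a • X (((Units.mk0 a ha0)⁻¹ : Eˣ) • a • w)
      congr 2
      rw [← smul_assoc]
      show w = ((((Units.mk0 a ha0)⁻¹ : Eˣ) : E) * a) • w
      simp [ha0]
    have h6 := hN _ hi0
    rw [hfcj] at h6
    obtain ⟨k', hk'⟩ := one_step H h1 hp h3 hu huu hα hx _ h6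
    apply Equiv.ext
    intro X
    apply LinearMap.ext
    intro w
    obtain ⟨w, rfl⟩ := g.surjective w
    have hk'' : algebraMap K E k' = a := hk'
    have hk0 : k' ≠ 0 := by
      rintro rfl
      rw [map_zero] at hk''
      exact ha0 hk''.symm
    show f X (g w) = X (g w)
    rw [hfg, hga', hga', ← hk'', algebraMap_smul, algebraMap_smul, map_smul]

/-- **[B-C3V]** -/
theorem bc3V : Cfsg.Agent.H786.FC.StmtBC3On.{u, v} true true fun n e => n = e := by
  intro K _ _ V _ _ _ b hk hbig S hS _ E hP _ hE' hp hadj hnorm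
  have hU : b.IsU := hk.1 rfl
  have hP' : Module.finrank K V = Module.finrank K E := hP
  letI : Field E := hE'.toField
  haveI : Finite (R K V) := Module.finite_of_finite K
  haveI : Finite E := inferInstance
  have h1 : Module.finrank K E * Module.finrank E V = Module.finrank K V := Module.finrank_mul_finrank K E V
  have hbig' : 3 ≤ Module.finrank K V ∧ (Module.finrank K V = 3 → Nat.card K ≠ 4) := by
    rcases hbig with h | h
    · exact h.2
    · exact absurd h.1 (Cfsg.Agent.H786.FC.not_isSp_of_isU hU)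
  haveI : Nontrivial V := Module.nontrivial_of_finrank_pos (R := K) (by omega)
  have hEV : Module.finrank E V = 1 := by
    rw [hP'] at h1
    have h2 : 0 < Module.finrank K E := hp.pos
    exact Nat.eq_of_mul_eq_mul_left h2 (by rw [h1, mul_one])
  -- the primitive prime
  obtain ⟨p, hpc⟩ := CharP.exists K
  have hpp : p.Prime := CharP.char_is_prime K p
  haveI := Fact.mk hpp
  haveI := Fintype.ofFinite K
  obtain ⟨k, -, hk'⟩ := FiniteField.card K p
  have hcE : Nat.card E = p ^ ((k : ℕ) * Module.finrank K E) := by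
    rw [Module.natCard_eq_pow_finrank (K := K) (V := E), Nat.card_eq_fintype_card, hk', ← pow_mul]
  have hn3 : 3 ≤ Module.finrank K E := by omega
  have hkp : 0 < (k : ℕ) := k.pos
  obtain ⟨r, hr⟩ := exists_prim (E := E) hpp hcE (by nlinarith) (by
    rintro ⟨hp2, h6⟩
    have hdvd : Module.finrank K E ∣ 6 := ⟨k, by rw [mul_comm]; exact h6.symm⟩
    have hle := Nat.le_of_dvd (by norm_num) hdvd
    have hn : Module.finrank K E = 3 := by
      generalize Module.finrank K E = n at *
      interval_cases n <;> first | rfl | (exfalso; revert hp; decide) | (exfalso; revert hdvd; decide)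
    rw [hn] at h6
    have hk2 : (k : ℕ) = 2 := by omega
    apply hbig'.2 (by rw [hP', hn])
    rw [Nat.card_eq_fintype_card, hk', hp2, hk2]
    norm_num)
  refine five_one (E := E) hU ?_ hEV hp hn3 hr S (fun f hf => (hS hf).1) ?_
  · intro a
    obtain ⟨Y, hY, hY'⟩ := hadj a a.2
    exact ⟨⟨Y, hY⟩, hY'⟩
  · intro f hf a
    have h3 := hnorm f hf a a.2
    refine ⟨⟨_, h3⟩, ?_⟩
    have h4 : ∀ c : E, Algebra.lsmul K K V c = (c : R K V) := fun c => rfl
    rw [h4, h4]

/-- **[B-C3U]** in the form of `H786.FC.Parts` -/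
theorem bc3U' : Cfsg.Agent.H786.FC.StmtBC3On.{u, v} true true fun n e => 2 * e ≤ n := by
  intro K _ _ V _ _ _ b hk hbig S hS hsol E hP _ hE' hp hadj hnorm
  refine bc3U K V b hbig S hS hsol E hE' hp hadj hnorm (hk.1 rfl) ?_
  have hP' : 2 * Module.finrank K E ≤ Module.finrank K V := hP
  have := hp.pos
  omega

end

end Cfsg.Agent.H567.FC
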