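import Cfsg.Agent.H567.FC.Hyp

/-!
# S5764 [B-C3U]: the isometries `1 + T - T*` (helper567)
-/

set_option autoImplicit false

namespace Cfsg.Agent.H567.FC

open Cfsg.Agent.H198.FC

universe u v w

section nil

variable {K : Type u} [Field K] [Finite K] {V : Type v} [AddCommGroup V] [Module K V] [Module.Finite K V]

theorem one_add_pow {A : Type*} [Ring A] {N : A} (hN : N * N = 0) (k : ℕ) : (1 + N) ^ k = 1 + k • N := by
  induction k with
  | zero => simp
  | succ k ih =>
    have h1 : (1 + k • N) * (1 + N) = 1 + (k • N + N) + k • (N * N) := by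
      simp only [nsmul_eq_mul]
      noncomm_ring
    rw [pow_succ, ih, h1, hN, smul_zero, add_zero, succ_nsmul]

theorem det_one_add {N : R K V} (hN : N * N = 0) : LinearMap.det (1 + N) = 1 := by
  obtain ⟨p, hp⟩ := CharP.exists K
  haveI : Fact p.Prime := ⟨CharP.char_is_prime K p⟩
  have h1 : (1 + N) ^ p = 1 := by
    rw [one_add_pow hN, ← Nat.cast_smul_eq_nsmul K, CharP.cast_eq_zero, zero_smul, add_zero]
  have h2 := congrArg LinearMap.det h1
  rw [map_pow, map_one] at h2
  have h3 : frobenius K p (LinearMap.det (1 + N)) = frobenius K p 1 := by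
    rw [frobenius_def, frobenius_def, one_pow, h2]
  exact frobenius_inj K p h3

end nil

variable {K : Type u} [Field K] {V : Type v} [AddCommGroup V] [Module K V]
  {b : Cl K V} {E : Type w} [Field E] [Algebra K E] [Module E V] [IsScalarTower K E V] (H : Hm b E)

/-- `u ↦ τ(h(u,w)) v` -/
noncomputable def Z {τ : E ≃+* E} (hτ : ∀ k : K, τ (algebraMap K E k) = algebraMap K E k) (v w : V) : R K V where
  toFun u := τ (H.h u w) • v
  map_add' u u' := by rw [H.add_left, map_add, add_smul]
  map_smul' k u := by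
    rw [← algebraMap_smul E k u, H.smul_left, map_mul, hτ, mul_smul, algebraMap_smul]
    rfl

@[simp] theorem Z_apply {τ : E ≃+* E} (hτ : ∀ k : K, τ (algebraMap K E k) = algebraMap K E k) (v w u : V) :
    Z H hτ v w u = τ (H.h u w) • v := rfl

theorem symm_fix {τ : E ≃+* E} (hτ : ∀ k : K, τ (algebraMap K E k) = algebraMap K E k) (k : K) :
    τ.symm (algebraMap K E k) = algebraMap K E k := by
  rw [RingEquiv.symm_apply_eq, hτ]

theorem Z_adj [Finite E] {τ : E ≃+* E} (hτ : ∀ k : K, τ (algebraMap K E k) = algebraMap K E k) (v w u u' : V) :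
    b.B (Z H hτ v w u) u' = b.B u (Z H (symm_fix hτ) w v u') := by
  have h1 : ∀ x : E, Algebra.trace K E (τ x) = Algebra.trace K E x := by
    intro x
    haveI : Finite K := Finite.of_injective _ (FaithfulSMul.algebraMap_injective K E)
    exact trace_J (τ := RingEquiv.refl K) hτ x
  have h2 : τ (τ.symm (H.h v u') * H.h u w) = τ (H.h u w) * H.h v u' := by
    rw [map_mul, τ.apply_symm_apply, mul_comm]
  rw [H.tr, H.tr, Z_apply, Z_apply, H.smul_left, H.smul_right, aut_comm H.J τ.symm, ← H.symm,
    ← h1 (τ.symm (H.h v u') * H.h u w), h2]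

section fam

variable {κ : Type} [Fintype κ] (v w : κ → V)

/-- the first component -/
noncomputable def TT {τ : E ≃+* E} (hτ : ∀ k : K, τ (algebraMap K E k) = algebraMap K E k) : R K V :=
  ∑ i, Z H hτ (v i) (w i)

theorem TT_apply {τ : E ≃+* E} (hτ : ∀ k : K, τ (algebraMap K E k) = algebraMap K E k) (u : V) :
    TT H v w hτ u = ∑ i, τ (H.h u (w i)) • v i := by
  rw [TT, LinearMap.sum_apply]
  rfl

theorem TT_smul {τ : E ≃+* E} (hτ : ∀ k : K, τ (algebraMap K E k) = algebraMap K E k) (a : E) (u : V) :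
    TT H v w hτ (a • u) = τ a • TT H v w hτ u := by
  rw [TT_apply, TT_apply, Finset.smul_sum]
  refine Finset.sum_congr rfl fun i _ => ?_
  rw [H.smul_left, map_mul, mul_smul]

theorem TT_zero {τ : E ≃+* E} (hτ : ∀ k : K, τ (algebraMap K E k) = algebraMap K E k) {u : V}
    (h : ∀ i, H.h u (w i) = 0) : TT H v w hτ u = 0 := by
  rw [TT_apply]
  refine Finset.sum_eq_zero fun i _ => ?_
  rw [h, map_zero, zero_smul]

theorem h_TT {τ : E ≃+* E} (hτ : ∀ k : K, τ (algebraMap K E k) = algebraMap K E k) (u y : V)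
    (h : ∀ i, H.h (v i) y = 0) : H.h (TT H v w hτ u) y = 0 := by
  rw [TT_apply, H.sum_left]
  refine Finset.sum_eq_zero fun i _ => ?_
  rw [H.smul_left, h, mul_zero]

theorem TT_adj [Finite E] {τ : E ≃+* E} (hτ : ∀ k : K, τ (algebraMap K E k) = algebraMap K E k) (u u' : V) :
    b.B (TT H v w hτ u) u' = b.B u (TT H w v (symm_fix hτ) u') := by
  have hl : ∀ (s : Finset κ) (F : κ → V), b.B (∑ i ∈ s, F i) u' = ∑ i ∈ s, b.B (F i) u' := by
    classical
    intro s F
    induction s using Finset.induction_on with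
    | empty =>
      have h := b.smul_left (0 : K) 0 u'
      simpa using h
    | insert i s hi ih => rw [Finset.sum_insert hi, Finset.sum_insert hi, b.add_left, ih]
  have hr : ∀ (s : Finset κ) (F : κ → V), b.B u (∑ i ∈ s, F i) = ∑ i ∈ s, b.B u (F i) := by
    classical
    intro s F
    induction s using Finset.induction_on with
    | empty =>
      have h := b.smul_right (0 : K) u 0
      simpa using h
    | insert i s hi ih => rw [Finset.sum_insert hi, Finset.sum_insert hi, b.add_right, ih]
  rw [TT, TT, LinearMap.sum_apply, LinearMap.sum_apply, hl, hr]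
  exact Finset.sum_congr rfl fun i _ => Z_adj H hτ _ _ _ _

/-- the isometry `1 + T - T*` -/
theorem exists_x [Finite E] [Finite K] [Module.Finite K V] (hU : b.IsU) {τ : E ≃+* E}
    (hτ : ∀ k : K, τ (algebraMap K E k) = algebraMap K E k)
    (hvv : ∀ i j, H.h (v i) (v j) = 0) (hvw : ∀ i j, H.h (v i) (w j) = 0) (hww : ∀ i j, H.h (w i) (w j) = 0) :
    ∃ x : (R K V)ˣ, LinearMap.det ((x : (R K V)ˣ) : R K V) = 1 ∧ b.Isom x ∧
      ∀ u, (x : R K V) u = u + TT H v w hτ u - TT H w v (symm_fix hτ) u := by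
  have hwv : ∀ i j, H.h (w i) (v j) = 0 := by
    intro i j
    rw [H.symm (v j) (w i), hvw, map_zero]
  set T := TT H v w hτ with hT
  set T' := TT H w v (symm_fix hτ) with hT'
  have h1 : ∀ u, T (T u) = 0 := fun u => TT_zero H v w hτ fun i => h_TT H v w hτ u _ fun j => hvw j i
  have h2 : ∀ u, T (T' u) = 0 := fun u => TT_zero H v w hτ fun i => h_TT H w v _ u _ fun j => hww j i
  have h3 : ∀ u, T' (T u) = 0 := fun u => TT_zero H w v _ fun i => h_TT H v w hτ u _ fun j => hvv j i
  have h4 : ∀ u, T' (T' u) = 0 := fun u => TT_zero H w v _ fun i => h_TT H w v _ u _ fun j => hwv j i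
  set N : R K V := T - T' with hN
  have hNN : N * N = 0 := by
    apply LinearMap.ext
    intro u
    show (T - T') ((T - T') u) = 0
    rw [LinearMap.sub_apply, LinearMap.sub_apply, map_sub, map_sub, h1, h2, h3, h4]
    simp
  have hadj1 : ∀ u u', b.B (T u) u' = b.B u (T' u') := fun u u' => TT_adj H v w hτ u u'
  have hadj2 : ∀ u u', b.B (T' u) u' = b.B u (T u') := by
    intro u u'
    rw [hU.2 u' (T' u), ← hadj1, hU.2 u (T u'), b.invol]
  have bsubl : ∀ x y z, b.B (x - y) z = b.B x z - b.B y z := by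
    intro x y z
    have h := b.add_left (x - y) y z
    rw [sub_add_cancel] at h
    rw [h, add_sub_cancel_right]
  have bsubr : ∀ x y z, b.B x (y - z) = b.B x y - b.B x z := by
    intro x y z
    have h := b.add_right x (y - z) z
    rw [sub_add_cancel] at h
    rw [h, add_sub_cancel_right]
  have hadjN : ∀ u u', b.B (N u) u' = - b.B u (N u') := by
    intro u u'
    rw [hN, LinearMap.sub_apply, LinearMap.sub_apply, bsubl, bsubr, hadj1, hadj2]
    ring
  refine ⟨⟨1 + N, 1 - N, ?_, ?_⟩, det_one_add hNN, ?_, ?_⟩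
  · have h5 : (1 + N) * (1 - N) = 1 - N * N := by noncomm_ring
    rw [h5, hNN, sub_zero]
  · have h5 : (1 - N) * (1 + N) = 1 - N * N := by noncomm_ring
    rw [h5, hNN, sub_zero]
  · intro u u'
    show b.B (u + N u) (u' + N u') = _
    have h5 : N (N u') = 0 := by
      have := congrArg (fun f : R K V => f u') hNN
      exact this
    have h6 : b.B u 0 = 0 := by simpa using b.smul_right (0 : K) u 0
    rw [b.add_left, b.add_right, b.add_right, hadjN, hadjN, h5, h6]
    ring
  · intro u
    show u + (T - T') u = _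
    rw [LinearMap.sub_apply]
    abel

end fam

end Cfsg.Agent.H567.FC
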